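import Cfsg.Agent.Golay.Cohom.Data

/-!
Linear forms in the unknown tails of a presentation, given as lists of bit masks, and symbolic
rewriting of words collecting these tails.
-/

set_option autoImplicit false

namespace CfsgLib.Golay.Cohom

/-- The module: binary vectors of length 11. -/
abbrev Vec := Fin 11 → ZMod 2

/-- The value of a mask of unknowns. -/
def ev (x : ℕ → ZMod 2) (m : ℕ) : ZMod 2 :=
  ∑ b ∈ Finset.range 561, if m.testBit b then x b else 0

/-- The value of a form. -/
def evF (x : ℕ → ZMod 2) (t : List ℕ) : Vec := fun i => ev x (t.getD i.val 0)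

theorem zmod2_add_self : ∀ a : ZMod 2, a + a = 0 := by decide

theorem vec_add_self (v : Vec) : v + v = 0 := funext fun _ => zmod2_add_self _

@[simp] theorem ev_zero (x : ℕ → ZMod 2) : ev x 0 = 0 := by simp [ev]

theorem ev_xor (x : ℕ → ZMod 2) (a b : ℕ) : ev x (a ^^^ b) = ev x a + ev x b := by
  rw [ev, ev, ev, ← Finset.sum_add_distrib]
  refine Finset.sum_congr rfl fun i _ => ?_
  rw [Nat.testBit_xor]
  cases a.testBit i <;> cases b.testBit i <;> simp [zmod2_add_self]

theorem ev_shift (x : ℕ → ZMod 2) {b : ℕ} (hb : b < 561) : ev x (1 <<< b) = x b := by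
  simp [ev, Nat.one_shiftLeft, Nat.testBit_two_pow, hb]

/-- The sum of two forms. -/
def xorF (a b : List ℕ) : List ℕ := (List.range 11).map fun i => a.getD i 0 ^^^ b.getD i 0

theorem getD_range_map (f : ℕ → ℕ) (i : Fin 11) : ((List.range 11).map f).getD i.val 0 = f i.val := by
  simp [List.getD_eq_getElem?_getD, i.isLt]

theorem evF_xorF (x : ℕ → ZMod 2) (a b : List ℕ) : evF x (xorF a b) = evF x a + evF x b := by
  funext i
  simp only [evF, xorF, getD_range_map, ev_xor, Pi.add_apply]

theorem evF_nil (x : ℕ → ZMod 2) : evF x [] = 0 := by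
  funext i; simp [evF]

/-- The unknown tail of a rule. -/
def unitF (r : ℕ) : List ℕ := (List.range 11).map fun i => 1 <<< (r * 11 + i)

theorem evF_unitF (x : ℕ → ZMod 2) {r : ℕ} (hr : r < 51) :
    evF x (unitF r) = fun i : Fin 11 => x (r * 11 + i.val) := by
  funext i
  simp only [evF, unitF, getD_range_map]
  exact ev_shift x (by omega)

/-- Sum of the entries of a form selected by bit `j` of the rows of a matrix. -/
def bitsel : List ℕ → List ℕ → ℕ → ℕ
  | a :: A, m :: t, j => if a.testBit j then m ^^^ bitsel A t j else bitsel A t j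
  | _, _, _ => 0

theorem ev_bitsel (x : ℕ → ZMod 2) (j : ℕ) : ∀ (n : ℕ) (A t : List ℕ), A.length ≤ n →
    ev x (bitsel A t j) =
      ∑ i : Fin n, if (A.getD i.val 0).testBit j then ev x (t.getD i.val 0) else 0
  | n, [], t, _ => by simp [bitsel]
  | n, a :: A, [], _ => by simp [bitsel]
  | 0, a :: A, _, h => by simp at h
  | n + 1, a :: A, m :: t, h => by
    rw [Fin.sum_univ_succ]
    simp only [Fin.val_zero, List.getD_cons_zero, Fin.val_succ, List.getD_cons_succ]
    rw [← ev_bitsel x j n A t (by simpa using h)]
    simp only [bitsel]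
    split <;> simp [ev_xor]

/-- A matrix acting on forms. -/
def appF (A t : List ℕ) : List ℕ := (List.range 11).map (bitsel (A.take 11) t)

/-- A matrix acting on vectors. -/
def mulV (A : List ℕ) (v : Vec) : Vec :=
  fun j => ∑ i : Fin 11, if (A.getD i.val 0).testBit j.val then v i else 0

theorem mulV_add (A : List ℕ) (u v : Vec) : mulV A (u + v) = mulV A u + mulV A v := by
  funext j
  simp only [mulV, Pi.add_apply, ← Finset.sum_add_distrib]
  refine Finset.sum_congr rfl fun i _ => ?_
  split <;> simp

theorem evF_appF (x : ℕ → ZMod 2) (A t : List ℕ) : evF x (appF A t) = mulV A (evF x t) := by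
  funext j
  simp only [evF, appF, getD_range_map, mulV]
  rw [ev_bitsel x _ 11 _ _ (by simp)]
  refine Finset.sum_congr rfl fun i _ => ?_
  simp [List.getD_eq_getElem?_getD, List.getElem?_take, i.isLt]

/-- The identity matrix. -/
def idM : List ℕ := (List.range 11).map fun i => 1 <<< i

theorem mulV_idM (v : Vec) : mulV idM v = v := by
  funext j
  simp only [mulV, idM, getD_range_map, Nat.one_shiftLeft, Nat.testBit_two_pow]
  simp [← Fin.ext_iff]

/-- The matrix of a letter. -/
def matOf (mats : List (List ℕ)) (k : ℕ) : List ℕ := mats.getD k idM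

/-- Moving a form to the front of a word. -/
def preF (mats : List (List ℕ)) : List ℕ → List ℕ → List ℕ
  | [], t => t
  | k :: w, t => appF (matOf mats k) (preF mats w t)

/-- The left and right side of a rule used in a given direction. -/
def sides (r : ℕ) : Bool → List ℕ × List ℕ
  | true => rules.getD r ([], [])
  | false => ((rules.getD r ([], [])).2, (rules.getD r ([], [])).1)

/-- One rewriting step. -/
def step (mats : List (List ℕ)) (e : ℕ × ℕ × Bool) (st : List ℕ × List ℕ) :
    Option (List ℕ × List ℕ) :=
  if ((st.1.drop e.1).take (sides e.2.1 e.2.2).1.length == (sides e.2.1 e.2.2).1) &&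
      decide (e.2.1 < 51) then
    some (st.1.take e.1 ++ (sides e.2.1 e.2.2).2 ++ st.1.drop (e.1 + (sides e.2.1 e.2.2).1.length),
      xorF st.2 (preF mats (st.1.take e.1) (unitF e.2.1)))
  else none

/-- A sequence of rewriting steps. -/
def run (mats : List (List ℕ)) :
    List (ℕ × ℕ × Bool) → List ℕ × List ℕ → Option (List ℕ × List ℕ)
  | [], st => some st
  | e :: es, st => (step mats e st).bind (run mats es)

/-- The forms vanishing because two rewritings of a word agree. -/
def eqForm (mats : List (List ℕ))
    (e : List ℕ × List (ℕ × ℕ × Bool) × List (ℕ × ℕ × Bool)) : List ℕ :=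
  match run mats e.2.1 (e.1, []), run mats e.2.2 (e.1, []) with
  | some p, some q => if p.1 == q.1 then xorF p.2 q.2 else []
  | _, _ => []

/-- The entries of a list at given increasing positions. -/
def pick : List ℕ → ℕ → List ℕ → List ℕ
  | a :: l, n, i :: is => if n == i then a :: pick l (n + 1) is else pick l (n + 1) (i :: is)
  | _, _, _ => []

theorem mem_of_mem_pick : ∀ (l : List ℕ) (n : ℕ) (is : List ℕ) (a : ℕ),
    a ∈ pick l n is → a ∈ l
  | [], _, _, a, h => by simp [pick] at h
  | b :: l, n, [], a, h => by simp [pick] at h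
  | b :: l, n, i :: is, a, h => by
    simp only [pick] at h
    split at h
    · rcases List.mem_cons.1 h with rfl | h
      · exact List.mem_cons_self
      · exact List.mem_cons_of_mem _ (mem_of_mem_pick l _ _ a h)
    · exact List.mem_cons_of_mem _ (mem_of_mem_pick l _ _ a h)

section Eval

variable {E : Type*} [Group E] (s : ℕ → E)

/-- The product of a word. -/
def evalW (w : List ℕ) : E := (w.map s).prod

theorem evalW_nil : evalW s [] = 1 := rfl

theorem evalW_cons (k : ℕ) (w : List ℕ) : evalW s (k :: w) = s k * evalW s w := by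
  simp [evalW]

theorem evalW_append (u w : List ℕ) : evalW s (u ++ w) = evalW s u * evalW s w := by
  simp [evalW]

end Eval

/-- Lifts of generators, with a module on which they act by given matrices. -/
structure Lifts (E : Type*) [Group E] (mats : List (List ℕ)) where
  /-- The lifts. -/
  s : ℕ → E
  /-- The embedding of the module. -/
  emb : Vec → E
  emb_add : ∀ u v, emb (u + v) = emb u * emb v
  emb_inj : Function.Injective emb
  conj : ∀ k v, s k * emb v = emb (mulV (matOf mats k) v) * s k
  /-- The tails of the rules. -/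
  x : ℕ → ZMod 2
  tail : ∀ r < 51, evalW s (rules.getD r ([], [])).1 =
    emb (fun i : Fin 11 => x (r * 11 + i.val)) * evalW s (rules.getD r ([], [])).2

namespace Lifts

variable {E : Type*} [Group E] {mats : List (List ℕ)} (L : Lifts E mats)

theorem emb_zero : L.emb 0 = 1 := by
  have h := L.emb_add 0 0
  rw [add_zero] at h
  exact left_eq_mul.1 h

theorem emb_mul_self (v : Vec) : L.emb v * L.emb v = 1 := by
  rw [← L.emb_add, vec_add_self, L.emb_zero]

theorem preF_spec : ∀ (w : List ℕ) (t : List ℕ),
    evalW L.s w * L.emb (evF L.x t) = L.emb (evF L.x (preF mats w t)) * evalW L.s w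
  | [], t => by simp [evalW_nil, preF]
  | k :: w, t => by
    rw [evalW_cons, preF, evF_appF, mul_assoc, preF_spec w t, ← mul_assoc, L.conj, mul_assoc]

theorem tail_sides {r : ℕ} (hr : r < 51) : ∀ f : Bool,
    evalW L.s (sides r f).1 = L.emb (evF L.x (unitF r)) * evalW L.s (sides r f).2
  | true => by rw [evF_unitF _ hr]; exact L.tail r hr
  | false => by
    rw [evF_unitF _ hr]
    simp only [sides]
    rw [L.tail r hr, ← mul_assoc, L.emb_mul_self, one_mul]

theorem step_spec {e : ℕ × ℕ × Bool} {st st' : List ℕ × List ℕ} (h : step mats e st = some st') :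
    L.emb (evF L.x st.2) * evalW L.s st.1 = L.emb (evF L.x st'.2) * evalW L.s st'.1 := by
  obtain ⟨p, r, f⟩ := e
  obtain ⟨w, t⟩ := st
  simp only [step] at h
  split at h
  · next hc =>
    simp only [Bool.and_eq_true, beq_iff_eq, decide_eq_true_eq] at hc
    obtain ⟨hm, hr⟩ := hc
    rw [Option.some.injEq] at h
    subst h
    simp only
    set l := (sides r f).1 with hl
    have hw : w = w.take p ++ l ++ w.drop (p + l.length) := by
      conv_lhs => rw [← List.take_append_drop p w, ← List.take_append_drop l.length (w.drop p), hm,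
        List.drop_drop]
      rw [List.append_assoc]
    conv_lhs => rw [hw]
    rw [evalW_append, evalW_append, hl, L.tail_sides hr f, evalW_append, evalW_append, evF_xorF,
      L.emb_add, ← mul_assoc (evalW L.s (w.take p)) (L.emb _), preF_spec]
    simp only [mul_assoc]
  · exact absurd h (by simp)

theorem run_spec : ∀ (es : List (ℕ × ℕ × Bool)) (st st' : List ℕ × List ℕ),
    run mats es st = some st' →
      L.emb (evF L.x st.2) * evalW L.s st.1 = L.emb (evF L.x st'.2) * evalW L.s st'.1
  | [], st, st', h => by
    simp only [run, Option.some.injEq] at h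
    rw [h]
  | e :: es, st, st', h => by
    simp only [run, Option.bind_eq_some_iff] at h
    obtain ⟨st1, h1, h2⟩ := h
    rw [L.step_spec h1, run_spec es st1 st' h2]

theorem eqForm_zero (e : List ℕ × List (ℕ × ℕ × Bool) × List (ℕ × ℕ × Bool)) {m : ℕ}
    (hm : m ∈ eqForm mats e) : ev L.x m = 0 := by
  unfold eqForm at hm
  split at hm
  · next p q hp hq =>
    split at hm
    · next heq =>
      rw [beq_iff_eq] at heq
      have h1 := L.run_spec _ _ _ hp
      have h2 := L.run_spec _ _ _ hq
      rw [h1, heq] at h2
      have h3 : evF L.x p.2 = evF L.x q.2 := L.emb_inj (mul_right_cancel h2)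
      simp only [xorF, List.mem_map, List.mem_range] at hm
      obtain ⟨i, hi, rfl⟩ := hm
      rw [ev_xor, show ev L.x (p.2.getD i 0) = ev L.x (q.2.getD i 0) from congrFun h3 ⟨i, hi⟩]
      exact zmod2_add_self _
    · simp at hm
  · simp at hm

theorem masks_zero {eqs : List (List ℕ × List (ℕ × ℕ × Bool) × List (ℕ × ℕ × Bool))}
    {idxs masks : List ℕ} (h : pick (eqs.flatMap (eqForm mats)) 0 idxs = masks) {m : ℕ}
    (hm : m ∈ masks) : ev L.x m = 0 := by
  rw [← h] at hm
  obtain ⟨e, -, he⟩ := List.mem_flatMap.1 (mem_of_mem_pick _ _ _ m hm)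
  exact L.eqForm_zero e he

end Lifts

end CfsgLib.Golay.Cohom
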