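import Cfsg.Prelude.Def_Spor_Mathieu
import Cfsg.Agent.Eq.Def_Spor_Mathieu
import Cfsg.Agent.Golay.Cohom.Forms
import Cfsg.Agent.Mathieu.Code
import Cfsg.Agent.Mathieu.Small
import Cfsg.Agent.Golay.Code
import Cfsg.Agent.Solvable.Gaschuetz

/-!
Extensions of `M23` by an 11-dimensional binary module: normalised tails on a Sylow 2-subgroup,
splitting when they vanish, and uniqueness when they are proportional to one class.
-/

set_option autoImplicit false
set_option maxRecDepth 20000

namespace CfsgLib.Golay.Cohom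

open Cfsg CfsgLib.Mathieu CfsgLib.Mathieu.Code
open scoped Pointwise

theorem gens_length : gens.length = 11 := rfl

attribute [local irreducible] enc cmpC idC code permOf gens rules ev evF

/-- The generators as permutations. -/
def gPerm (k : ℕ) : Equiv.Perm GolayPt :=
  if h : okPair (gens.getD k (idC, idC)).1 (gens.getD k (idC, idC)).2 = true then
    permOf _ _ h else 1

theorem gPerm_mem (k : ℕ) : gPerm k ∈ Spor.M23 := by
  rcases lt_or_ge k 11 with h | h
  · have key : ∀ k < 11, (∀ b ∈ basisMasks, inCode (toMask (gPerm k • ofMask b)) = true) ∧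
        gPerm k none = none := by decide +kernel
    exact ⟨mem_M24_iff.mpr (key k h).1, MulAction.mem_stabilizer_iff.mpr (key k h).2⟩
  · have : gPerm k = 1 := by
      unfold gPerm
      rw [List.getD_eq_default _ _ (by rw [gens_length]; exact h)]
      split
      · next h' => exact code_injective (by rw [(code_permOf _ _ h').1, code_one])
      · rfl
    rw [this]; exact one_mem _

/-- The generators in `M23`. -/
def gM (k : ℕ) : ↥Spor.M23 := ⟨gPerm k, gPerm_mem k⟩

theorem gM_of_le {k : ℕ} (h : 11 ≤ k) : gM k = 1 := by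
  apply Subtype.ext
  show gPerm k = 1
  unfold gPerm
  rw [List.getD_eq_default _ _ (by rw [gens_length]; exact h)]
  split
  · next h' => exact code_injective (by rw [(code_permOf _ _ h').1, code_one])
  · rfl

theorem code_gPerm (k : ℕ) : code (gPerm k) = (gens.getD k (idC, idC)).1 := by
  rcases lt_or_ge k 11 with h | h
  · have key : ∀ k < 11, okPair (gens.getD k (idC, idC)).1 (gens.getD k (idC, idC)).2 = true := by
      decide +kernel
    rw [gPerm, dif_pos (key k h), (code_permOf _ _ _).1]
  · rw [show gPerm k = 1 from congrArg Subtype.val (gM_of_le h), code_one,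
      List.getD_eq_default _ _ (by rw [gens_length]; exact h)]

/-- The code of the product of a word. -/
def codeW (w : List ℕ) : ℕ := w.foldr (fun k acc => cmpC (gens.getD k (idC, idC)).1 acc) idC

theorem code_evalW : ∀ w : List ℕ, code ((evalW gM w : ↥Spor.M23) : Equiv.Perm GolayPt) = codeW w
  | [] => by rw [evalW_nil, Subgroup.coe_one, code_one]; rfl
  | k :: w => by
    rw [evalW_cons, Subgroup.coe_mul, code_mul, code_evalW w]
    show cmpC (code (gPerm k)) _ = _
    rw [code_gPerm]
    rfl

theorem rules_eval {r : ℕ} (hr : r < 51) :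
    evalW gM (rules.getD r ([], [])).1 = evalW gM (rules.getD r ([], [])).2 := by
  have key : ∀ r < 51, codeW (rules.getD r ([], [])).1 = codeW (rules.getD r ([], [])).2 := by
    decide +kernel
  exact Subtype.ext (code_injective (by rw [code_evalW, code_evalW, key r hr]))

/-- An extension of `M23` by the module with a given action. -/
structure Ext (E : Type*) [Group E] (act : ↥Spor.M23 → Vec → Vec) where
  /-- The projection. -/
  π : E →* ↥Spor.M23
  /-- The embedding of the module. -/
  emb : Vec → E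
  emb_add : ∀ u v, emb (u + v) = emb u * emb v
  emb_inj : Function.Injective emb
  ker_iff : ∀ e, π e = 1 ↔ ∃ v, emb v = e
  surj : Function.Surjective π
  conj : ∀ e v, e * emb v * e⁻¹ = emb (act (π e) v)

/-- The change of a lift of a word under a change of the lifts of the generators. -/
def valF (mats M : List (List ℕ)) : List ℕ → List ℕ
  | [] => []
  | k :: w => xorF (M.getD k []) (appF (matOf mats k) (valF mats M w))

/-- Certificate for the normalised tails. -/
def gaugeOK (mats M : List (List ℕ)) (masks : List ℕ) (phi kappa : ℕ) (picks : List ℕ) : Bool :=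
  (List.range 28).all fun r => (List.range 11).all fun j =>
    (1 <<< (r * 11 + j)) ^^^ (valF mats M (rules.getD r ([], [])).1).getD j 0 ^^^
        (valF mats M (rules.getD r ([], [])).2).getD j 0 ^^^
        (if kappa.testBit (r * 11 + j) then phi else 0) ==
      comb masks (picks.getD (r * 11 + j) 0)

/-- The values of the remaining class. -/
def kapV (kappa r : ℕ) : Vec := fun i => if kappa.testBit (r * 11 + i.val) then 1 else 0

theorem ev_comb (x : ℕ → ZMod 2) : ∀ (l : List ℕ), (∀ m ∈ l, ev x m = 0) → ∀ i,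
    ev x (comb l i) = 0
  | [], _, i => by simp [comb]
  | b :: bs, h, i => by
    rw [comb, ev_xor, ev_comb x bs (fun m hm => h m (List.mem_cons_of_mem _ hm)), add_zero]
    split
    · exact h b List.mem_cons_self
    · exact ev_zero x

variable {E : Type*} [Group E] {act : ↥Spor.M23 → Vec → Vec}

theorem Ext.emb_zero (X : Ext E act) : X.emb 0 = 1 := by
  have h := X.emb_add 0 0
  rw [add_zero] at h
  exact left_eq_mul.1 h

theorem Ext.emb_inv (X : Ext E act) (v : Vec) : (X.emb v)⁻¹ = X.emb v :=
  inv_eq_of_mul_eq_one_right (by rw [← X.emb_add, vec_add_self, X.emb_zero])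

theorem Ext.exists_tail (X : Ext E act) (s : ℕ → E) (hs : ∀ k, X.π (s k) = gM k) :
    ∃ x : ℕ → ZMod 2, ∀ r < 51, evalW s (rules.getD r ([], [])).1 =
      X.emb (fun i : Fin 11 => x (r * 11 + i.val)) * evalW s (rules.getD r ([], [])).2 := by
  have hev : ∀ w, X.π (evalW s w) = evalW gM w := fun w => by
    induction w with
    | nil => rw [evalW_nil, evalW_nil, map_one]
    | cons k w ih => rw [evalW_cons, evalW_cons, map_mul, hs, ih]
  have hex : ∀ r : Fin 51, ∃ v, X.emb v =
      evalW s (rules.getD r.val ([], [])).1 * (evalW s (rules.getD r.val ([], [])).2)⁻¹ :=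
    fun r => (X.ker_iff _).1 (by rw [map_mul, map_inv, hev, hev, rules_eval r.isLt, mul_inv_cancel])
  choose τ hτ using hex
  refine ⟨fun b => if h : b / 11 < 51 then τ ⟨b / 11, h⟩ ⟨b % 11, Nat.mod_lt _ (by norm_num)⟩ else 0,
    fun r hr => ?_⟩
  have : (fun i : Fin 11 => (fun b => if h : b / 11 < 51 then
      τ ⟨b / 11, h⟩ ⟨b % 11, Nat.mod_lt _ (by norm_num)⟩ else 0) (r * 11 + i.val)) = τ ⟨r, hr⟩ := by
    funext i
    have h1 : (r * 11 + i.val) / 11 = r := by omega
    have h2 : (r * 11 + i.val) % 11 = i.val := by omega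
    simp only [h1, dif_pos hr, h2]
  rw [this, hτ, inv_mul_cancel_right]

/-- Lifts of the generators with normalised tails. -/
theorem Ext.exists_normalised (X : Ext E act) {mats M : List (List ℕ)}
    (hact : ∀ k v, act (gM k) v = mulV (matOf mats k) v)
    {eqs : List (List ℕ × List (ℕ × ℕ × Bool) × List (ℕ × ℕ × Bool))} {idxs masks picks : List ℕ}
    {phi kappa : ℕ} (heq : pick (eqs.flatMap (eqForm mats)) 0 idxs = masks)
    (hg : gaugeOK mats M masks phi kappa picks = true) :
    ∃ s : ℕ → E, (∀ k, X.π (s k) = gM k) ∧ ∃ x : ℕ → ZMod 2, ∀ r < 28,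
      evalW s (rules.getD r ([], [])).1 =
        X.emb (ev x phi • kapV kappa r) * evalW s (rules.getD r ([], [])).2 := by
  choose s hs using fun k => X.surj (gM k)
  obtain ⟨x, hx⟩ := X.exists_tail s hs
  have hconj : ∀ k v, s k * X.emb v = X.emb (mulV (matOf mats k) v) * s k := fun k v => by
    rw [← hact k, ← hs k, ← X.conj, inv_mul_cancel_right]
  let L : Lifts E mats := ⟨s, X.emb, X.emb_add, X.emb_inj, hconj, x, hx⟩
  let s' : ℕ → E := fun k => X.emb (evF x (M.getD k [])) * s k
  have hs' : ∀ w, evalW s' w = X.emb (evF x (valF mats M w)) * evalW s w := fun w => by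
    induction w with
    | nil => rw [evalW_nil, evalW_nil, valF, evF_nil, X.emb_zero, mul_one]
    | cons k w ih =>
      rw [evalW_cons, evalW_cons, ih, valF, evF_xorF, evF_appF, X.emb_add]
      simp only [s', mul_assoc]
      rw [← mul_assoc (s k), hconj, mul_assoc]
  refine ⟨s', fun k => ?_, x, fun r hr => ?_⟩
  · simp only [s', map_mul, hs]
    rw [(X.ker_iff _).2 ⟨_, rfl⟩, one_mul]
  · rw [hs', hs', hx r (by omega), ← mul_assoc, ← mul_assoc, ← X.emb_add, ← X.emb_add]
    congr 2
    funext i
    simp only [gaugeOK, List.all_eq_true, List.mem_range, beq_iff_eq] at hg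
    have h := congrArg (ev x) (hg r hr i.val i.isLt)
    rw [ev_comb x masks (fun m hm => L.masks_zero heq hm), ev_xor, ev_xor, ev_xor,
      ev_shift x (by omega)] at h
    simp only [Pi.add_apply, Pi.smul_apply, evF, kapV, smul_eq_mul]
    have key : ∀ a b c d : ZMod 2, a + b + c + d = 0 → b + a = d + c := by decide
    have h' := key _ _ _ _ h
    split_ifs at h' ⊢ <;> simpa using h'

/-- The rules present a polycyclic series of the first seven generators. -/
def shapeOK : Bool :=
  (List.range 7).all fun k => (List.range (k + 1)).all fun j => (List.range 28).any fun r =>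
    (rules.getD r ([], [])).1 == [j, k] &&
      (if j == k then (rules.getD r ([], [])).2.all fun i => decide (i < k)
      else (rules.getD r ([], [])).2.head? == some k &&
        (rules.getD r ([], [])).2.tail.all fun i => decide (i < k))

theorem closure_insert_subset {G : Type*} [Group G] (K : Subgroup G) (x : G) (h2 : x * x ∈ K)
    (hn : ∀ h ∈ K, x⁻¹ * h * x ∈ K) :
    ((Subgroup.closure (insert x (K : Set G)) : Subgroup G) : Set G) ⊆
      (K : Set G) ∪ (fun h => x * h) '' (K : Set G) := by
  intro g hg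
  induction hg using Subgroup.closure_induction with
  | mem y hy =>
    rcases hy with rfl | hy
    · exact Or.inr ⟨1, K.one_mem, mul_one _⟩
    · exact Or.inl hy
  | one => exact Or.inl K.one_mem
  | mul a b _ _ ha hb =>
    rcases ha with ha | ⟨a', ha', rfl⟩ <;> rcases hb with hb | ⟨b', hb', rfl⟩
    · exact Or.inl (K.mul_mem ha hb)
    · exact Or.inr ⟨x⁻¹ * a * x * b', K.mul_mem (hn a ha) hb', by group⟩
    · exact Or.inr ⟨a' * b, K.mul_mem ha' hb, by group⟩
    · refine Or.inl ?_
      rw [show x * a' * (x * b') = x * x * (x⁻¹ * a' * x) * b' by group]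
      exact K.mul_mem (K.mul_mem h2 (hn a' ha')) hb'
  | inv a _ ha =>
    rcases ha with ha | ⟨a', ha', rfl⟩
    · exact Or.inl (K.inv_mem ha)
    · refine Or.inr ⟨x⁻¹ * (a'⁻¹ * (x * x)⁻¹) * x, hn _ (K.mul_mem (K.inv_mem ha') (K.inv_mem h2)),
        ?_⟩
      group

/-- A Sylow 2-subgroup lifts when the tails vanish. -/
theorem card_closure_le [Finite E] (s : ℕ → E) (hz : ∀ r < 28,
      evalW s (rules.getD r ([], [])).1 = evalW s (rules.getD r ([], [])).2) :
    ∀ n ≤ 7, Nat.card (Subgroup.closure (s '' {i | i < n}) : Subgroup E) ≤ 2 ^ n := by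
  intro n hn
  induction n with
  | zero =>
    rw [show {i : ℕ | i < 0} = ∅ by simp, Set.image_empty, Subgroup.closure_empty]
    simp
  | succ n ih =>
    have hshape : shapeOK = true := by decide +kernel
    simp only [shapeOK, List.all_eq_true, List.any_eq_true, List.mem_range, Bool.and_eq_true,
      beq_iff_eq] at hshape
    set K := Subgroup.closure (s '' {i | i < n}) with hK
    have hw : ∀ w : List ℕ, (∀ i ∈ w, i < n) → evalW s w ∈ K := fun w hw => by
      refine Subgroup.list_prod_mem _ fun y hy => ?_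
      obtain ⟨i, hi, rfl⟩ := List.mem_map.1 hy
      exact Subgroup.subset_closure ⟨i, hw i hi, rfl⟩
    have h2 : s n * s n ∈ K := by
      obtain ⟨r, hr, he, hR⟩ := hshape n (by omega) n (by omega)
      have := hz r hr
      simp only [BEq.rfl, ↓reduceIte, List.all_eq_true, decide_eq_true_eq] at hR
      rw [he] at this
      simp only [evalW, List.map_cons, List.map_nil, List.prod_cons, List.prod_nil, mul_one] at this
      rw [this]
      exact hw _ hR
    have hn' : ∀ h ∈ K, (s n)⁻¹ * h * s n ∈ K := by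
      intro h hh
      induction hh using Subgroup.closure_induction with
      | mem y hy =>
        obtain ⟨j, hj, rfl⟩ := hy
        have hj' : j < n := hj
        obtain ⟨r, hr, he, hR⟩ := hshape n (by omega) j (by omega)
        have := hz r hr
        rw [if_neg (by omega)] at hR
        simp only [Bool.and_eq_true, beq_iff_eq, List.all_eq_true, decide_eq_true_eq] at hR
        obtain ⟨hh, ht⟩ := hR
        rw [he] at this
        generalize (rules.getD r ([], [])).2 = w at this hh ht
        cases w with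
        | nil => simp at hh
        | cons a w =>
          simp only [List.head?_cons, Option.some.injEq] at hh
          subst hh
          simp only [evalW, List.map_cons, List.map_nil, List.prod_cons, List.prod_nil, mul_one]
            at this
          rw [mul_assoc, this, inv_mul_cancel_left]
          exact hw w ht
      | one => simp
      | mul a b _ _ ha hb =>
        rw [show (s n)⁻¹ * (a * b) * s n = (s n)⁻¹ * a * s n * ((s n)⁻¹ * b * s n) by group]
        exact K.mul_mem ha hb
      | inv a _ ha =>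
        rw [show (s n)⁻¹ * a⁻¹ * s n = ((s n)⁻¹ * a * s n)⁻¹ by group]
        exact K.inv_mem ha
    have hsub : (Subgroup.closure (s '' {i | i < n + 1}) : Set E) ⊆
        (K : Set E) ∪ (fun h => s n * h) '' (K : Set E) := by
      refine subset_trans (SetLike.coe_subset_coe.2 (Subgroup.closure_mono ?_))
        (closure_insert_subset K (s n) h2 hn')
      rintro y ⟨i, hi, rfl⟩
      rcases Nat.lt_succ_iff_lt_or_eq.1 hi with h | rfl
      · exact Set.mem_insert_of_mem _ (Subgroup.subset_closure ⟨i, h, rfl⟩)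
      · exact Set.mem_insert _ _
    have hle := (Set.ncard_le_ncard hsub (Set.toFinite _)).trans
      ((Set.ncard_union_le _ _).trans (Nat.add_le_add_left Set.ncard_image_le _))
    have hc : ∀ J : Subgroup E, Nat.card J = (J : Set E).ncard := fun J => Nat.card_coe_set_eq _
    rw [hc, pow_succ]
    have := ih (by omega)
    rw [hc] at this
    omega

/-- The extension splits when some lifts have vanishing tails. -/
theorem Ext.split [Finite E] (X : Ext E act) (s : ℕ → E) (hs : ∀ k, X.π (s k) = gM k)
    (hz : ∀ r < 28, evalW s (rules.getD r ([], [])).1 = evalW s (rules.getD r ([], [])).2) :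
    ∃ H : Subgroup E, Subgroup.IsComplement' X.π.ker H := by
  set H := Subgroup.closure (s '' {i | i < 7}) with hHdef
  have hH : Nat.card H ≤ 128 := card_closure_le s hz 7 le_rfl
  set f := (Spor.M23).subtype.comp X.π with hf
  have hpc : pcOK (gens.take 7).reverse = true := by decide +kernel
  have hsub : grpOf (gens.take 7).reverse ≤ H.map f := by
    rw [grpOf, Subgroup.closure_le]
    intro g hg
    obtain ⟨k, hk, hgk⟩ : ∃ k, k < 7 ∧ code g = (gens.getD k (idC, idC)).1 := by
      simp only [Set.mem_setOf_eq, List.map_reverse, List.mem_reverse, List.mem_map] at hg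
      obtain ⟨a, ha, hag⟩ := hg
      obtain ⟨k, hk, rfl⟩ := List.getElem_of_mem ha
      have hk' : k < 7 := by simpa [gens_length] using hk
      refine ⟨k, hk', ?_⟩
      rw [← hag, List.getElem_take, List.getD_eq_getElem?_getD,
        List.getElem?_eq_getElem (by rw [gens_length]; omega), Option.getD_some]
    refine ⟨s k, Subgroup.subset_closure ⟨k, hk, rfl⟩, code_injective ?_⟩
    rw [hgk, ← code_gPerm]
    show code ((X.π (s k) : ↥Spor.M23) : Equiv.Perm GolayPt) = _
    rw [hs]
    rfl
  have h128 : Nat.card (grpOf (gens.take 7).reverse) = 128 := by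
    rw [(spanSpec _ hpc).card, List.length_reverse, List.length_take, gens_length]; rfl
  have h1 : 128 ≤ Nat.card (H.map f) := h128 ▸ Subgroup.card_le_of_le hsub
  have h2 : Nat.card (H.map f) ≤ Nat.card H := Nat.le_of_dvd Nat.card_pos (H.card_map_dvd f)
  have hbij : Function.Bijective (f.subgroupMap H) :=
    (Nat.bijective_iff_surjective_and_card _).2 ⟨f.subgroupMap_surjective H, by omega⟩
  have hHK : H ⊓ X.π.ker = ⊥ := by
    rw [eq_bot_iff]
    intro h hh
    have : (⟨h, hh.1⟩ : H) = 1 := hbij.1 (Subtype.ext (by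
      show f h = f 1
      rw [map_one, hf, MonoidHom.comp_apply, MonoidHom.mem_ker.1 hh.2, map_one]))
    exact Subgroup.mem_bot.2 (congrArg Subtype.val this)
  haveI : IsMulCommutative X.π.ker := ⟨⟨fun a b => by
    obtain ⟨u, hu⟩ := (X.ker_iff _).1 a.2
    obtain ⟨v, hv⟩ := (X.ker_iff _).1 b.2
    apply Subtype.ext
    rw [Subgroup.coe_mul, Subgroup.coe_mul, ← hu, ← hv, ← X.emb_add, ← X.emb_add, add_comm]⟩⟩
  have hK : Nat.card X.π.ker = 2048 := by
    rw [← Nat.card_eq_of_bijective (fun v : Vec => (⟨X.emb v, (X.ker_iff _).2 ⟨v, rfl⟩⟩ : X.π.ker))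
      ⟨fun u v h => X.emb_inj (congrArg Subtype.val h), fun a => by
        obtain ⟨v, hv⟩ := (X.ker_iff _).1 a.2
        exact ⟨v, Subtype.ext hv⟩⟩]
    simp [Vec]
  have hidx : (X.π.ker ⊔ H).index = 79695 := by
    have hQ : Nat.card (H.map X.π) = 128 := by
      have := Subgroup.card_map_of_injective (K := H.map X.π) (Spor.M23).subtype_injective
      rw [Subgroup.map_map] at this
      change Nat.card (H.map f) = _ at this
      omega
    rw [sup_comm, ← Subgroup.comap_map_eq, Subgroup.index_comap_of_surjective _ X.surj]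
    have := (H.map X.π).card_mul_index
    rw [hQ, card_M23] at this
    omega
  exact Solvable.Gaschuetz.exists_complement (X.π.ker ⊔ H) H le_sup_left
    (by rw [hK, hidx]; norm_num) hHK rfl

/-- Two extensions with the same normalised tails are isomorphic. -/
theorem Ext.iso_of_tails [Finite E] {E' : Type*} [Group E'] [Finite E'] (X : Ext E act)
    (X' : Ext E' act) (s : ℕ → E) (s' : ℕ → E') (t : ℕ → Vec)
    (hs : ∀ k, X.π (s k) = gM k) (hs' : ∀ k, X'.π (s' k) = gM k)
    (ht : ∀ r < 28, evalW s (rules.getD r ([], [])).1 =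
      X.emb (t r) * evalW s (rules.getD r ([], [])).2)
    (ht' : ∀ r < 28, evalW s' (rules.getD r ([], [])).1 =
      X'.emb (t r) * evalW s' (rules.getD r ([], [])).2) :
    Nonempty (E ≃* E') := by
  let G : Subgroup (E × E') := MonoidHom.eqLocus (X.π.comp (MonoidHom.fst E E'))
    (X'.π.comp (MonoidHom.snd E E'))
  have hG : ∀ g : E × E', g ∈ G ↔ X.π g.1 = X'.π g.2 := fun g => Iff.rfl
  have hk : ∀ v, X.π (X.emb v) = 1 := fun v => (X.ker_iff _).2 ⟨v, rfl⟩
  have hk' : ∀ v, X'.π (X'.emb v) = 1 := fun v => (X'.ker_iff _).2 ⟨v, rfl⟩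
  let D : Subgroup G :=
    { carrier := {g | ∃ v, (g : E × E') = (X.emb v, X'.emb v)}
      one_mem' := ⟨0, by rw [X.emb_zero, X'.emb_zero]; rfl⟩
      mul_mem' := by
        rintro a b ⟨u, hu⟩ ⟨v, hv⟩
        exact ⟨u + v, by rw [Subgroup.coe_mul, hu, hv, X.emb_add, X'.emb_add]; rfl⟩
      inv_mem' := by
        rintro a ⟨u, hu⟩
        exact ⟨u, by rw [Subgroup.coe_inv, hu, Prod.inv_mk, X.emb_inv, X'.emb_inv]⟩ }
  haveI hD : D.Normal := by
    refine ⟨?_⟩
    rintro n ⟨v, hv⟩ g
    refine ⟨act (X.π (g : E × E').1) v, ?_⟩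
    rw [Subgroup.coe_mul, Subgroup.coe_mul, Subgroup.coe_inv, hv]
    refine Prod.ext ?_ ?_
    · exact X.conj _ v
    · show (g : E × E').2 * X'.emb v * (g : E × E').2⁻¹ = _
      rw [X'.conj, show X'.π (g : E × E').2 = X.π (g : E × E').1 from ((hG _).1 g.2).symm]
  let e₁ : Vec → G := fun v => ⟨(X.emb v, 1), by rw [hG, hk, map_one]⟩
  let pr : G →* ↥Spor.M23 := (X.π.comp (MonoidHom.fst E E')).comp G.subtype
  have hDle : D ≤ pr.ker := by
    rintro g ⟨v, hv⟩
    show X.π (g : E × E').1 = 1
    rw [hv]; exact hk v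
  let Y : Ext (G ⧸ D) act :=
    { π := QuotientGroup.lift D pr hDle
      emb := fun v => QuotientGroup.mk (e₁ v)
      emb_add := fun u v => by
        rw [← QuotientGroup.mk_mul]
        congr 1
        exact Subtype.ext (Prod.ext (X.emb_add u v) (one_mul _).symm)
      emb_inj := fun u v h => by
        obtain ⟨w, hw⟩ := QuotientGroup.eq.1 h
        have h2 : (1 : E')⁻¹ * 1 = X'.emb w := congrArg Prod.snd hw
        have h1 : (X.emb u)⁻¹ * X.emb v = X.emb w := congrArg Prod.fst hw
        rw [inv_one, one_mul, ← X'.emb_zero] at h2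
        rw [← X'.emb_inj h2, X.emb_zero, inv_mul_eq_one] at h1
        exact X.emb_inj h1
      ker_iff := fun q => by
        obtain ⟨g, rfl⟩ := QuotientGroup.mk_surjective q
        constructor
        · intro h
          have h1 : X.π (g : E × E').1 = 1 := h
          obtain ⟨u, hu⟩ := (X.ker_iff _).1 h1
          obtain ⟨w, hw⟩ := (X'.ker_iff _).1 (((hG _).1 g.2).symm.trans h1)
          refine ⟨u + w, QuotientGroup.eq.2 ⟨w, Prod.ext ?_ ?_⟩⟩
          · show (X.emb (u + w))⁻¹ * (g : E × E').1 = X.emb w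
            rw [X.emb_inv, ← hu, ← X.emb_add, add_comm u w, add_assoc, vec_add_self, add_zero]
          · show (1 : E')⁻¹ * (g : E × E').2 = X'.emb w
            rw [inv_one, one_mul, hw]
        · rintro ⟨v, hv⟩
          rw [← hv]
          exact hk v
      surj := fun σ => by
        obtain ⟨a, ha⟩ := X.surj σ
        obtain ⟨b, hb⟩ := X'.surj σ
        exact ⟨QuotientGroup.mk ⟨(a, b), (hG _).2 (ha.trans hb.symm)⟩, ha⟩
      conj := fun q v => by
        obtain ⟨g, rfl⟩ := QuotientGroup.mk_surjective q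
        rw [← QuotientGroup.mk_inv, ← QuotientGroup.mk_mul, ← QuotientGroup.mk_mul]
        congr 1
        refine Subtype.ext (Prod.ext (X.conj _ v) ?_)
        show (g : E × E').2 * 1 * (g : E × E').2⁻¹ = 1
        group }
  let p : ℕ → G := fun k => ⟨(s k, s' k), (hG _).2 ((hs k).trans (hs' k).symm)⟩
  have hp : ∀ w, ((evalW p w : G) : E × E') = (evalW s w, evalW s' w) := fun w => by
    induction w with
    | nil => rfl
    | cons k w ih => rw [evalW_cons, evalW_cons, evalW_cons, Subgroup.coe_mul, ih]; rfl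
  obtain ⟨H, hH⟩ := Y.split (fun k => QuotientGroup.mk (p k)) (fun k => hs k) (fun r hr => by
    have hmk : ∀ w, evalW (fun k => (QuotientGroup.mk (p k) : G ⧸ D)) w =
        QuotientGroup.mk (evalW p w) := fun w => by
      induction w with
      | nil => rfl
      | cons k w ih => rw [evalW_cons, evalW_cons, ih, QuotientGroup.mk_mul]
    rw [hmk, hmk]
    refine (QuotientGroup.eq.2 (show _ ∈ D from ⟨?_, ?_⟩)).symm
    · exact act (X.π (evalW s (rules.getD r ([], [])).2)⁻¹) (t r)
    · rw [Subgroup.coe_mul, Subgroup.coe_inv, hp, hp, ht r hr, ht' r hr]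
      have hπ : X'.π (evalW s' (rules.getD r ([], [])).2) =
          X.π (evalW s (rules.getD r ([], [])).2) := by
        have := (hG _).1 (evalW p (rules.getD r ([], [])).2).2
        rw [hp] at this
        exact this.symm
      refine Prod.ext ?_ ?_
      · show _ * (_ * _) = _
        rw [← X.conj, inv_inv, mul_assoc]
        rfl
      · show _ * (_ * _) = _
        rw [map_inv, ← hπ, ← map_inv, ← X'.conj, inv_inv, mul_assoc]
        rfl)
  set Γ : Subgroup G := H.comap (QuotientGroup.mk' D) with hΓ
  have hDΓ : ∀ g ∈ D, g ∈ Γ := fun g hg => by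
    show QuotientGroup.mk' D g ∈ H
    rw [show QuotientGroup.mk' D g = 1 from (QuotientGroup.eq_one_iff g).2 hg]
    exact one_mem _
  have hint : ∀ v, e₁ v ∈ Γ → v = 0 := fun v hv => by
    have h1 : (QuotientGroup.mk (e₁ v) : G ⧸ D) ∈ Y.π.ker ⊓ H :=
      ⟨(Y.ker_iff _).2 ⟨v, rfl⟩, hv⟩
    rw [disjoint_iff.1 hH.disjoint, Subgroup.mem_bot] at h1
    exact Y.emb_inj (h1.trans Y.emb_zero.symm)
  have hcov : ∀ σ, ∃ g ∈ Γ, pr g = σ := fun σ => by
    obtain ⟨q, hq⟩ := Y.surj σ
    obtain ⟨⟨⟨k, hk1⟩, ⟨h, hh⟩⟩, e⟩ := hH.2 q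
    obtain ⟨g, rfl⟩ := QuotientGroup.mk_surjective h
    refine ⟨g, hh, ?_⟩
    rw [← hq, ← e, map_mul, MonoidHom.mem_ker.1 hk1, one_mul]
    rfl
  let fst' : Γ →* E := (MonoidHom.fst E E').comp (G.subtype.comp Γ.subtype)
  let snd' : Γ →* E' := (MonoidHom.snd E E').comp (G.subtype.comp Γ.subtype)
  have h1 : Function.Bijective fst' := by
    refine ⟨(injective_iff_map_eq_one _).2 fun g hg => ?_, fun a => ?_⟩
    · obtain ⟨⟨⟨a, b⟩, hab⟩, hmem⟩ := g
      change a = 1 at hg
      subst hg
      obtain ⟨w, rfl⟩ := (X'.ker_iff b).1 (((hG _).1 hab).symm.trans (map_one _))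
      let d : G := ⟨(X.emb w, X'.emb w), (hG _).2 ((hk w).trans (hk' w).symm)⟩
      have hw : w = 0 := hint w (by
        have : e₁ w = d * (⟨(1, X'.emb w), hab⟩ : G)⁻¹ := by
          refine Subtype.ext (Prod.ext ?_ ?_)
          · show X.emb w = X.emb w * (1 : E)⁻¹
            rw [inv_one, mul_one]
          · show (1 : E') = X'.emb w * (X'.emb w)⁻¹
            rw [mul_inv_cancel]
        rw [this]
        exact mul_mem (hDΓ d ⟨w, rfl⟩) (inv_mem hmem))
      subst hw
      exact Subtype.ext (Subtype.ext (Prod.ext rfl X'.emb_zero))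
    · obtain ⟨g, hg, hgσ⟩ := hcov (X.π a)
      obtain ⟨w, hw⟩ := (X.ker_iff (a * (g : E × E').1⁻¹)).1 (by
        rw [map_mul, map_inv, show X.π (g : E × E').1 = X.π a from hgσ, mul_inv_cancel])
      let d : G := ⟨(X.emb w, X'.emb w), (hG _).2 ((hk w).trans (hk' w).symm)⟩
      exact ⟨⟨d * g, mul_mem (hDΓ d ⟨w, rfl⟩) hg⟩, (congrArg (· * (g : E × E').1) hw).trans
        (inv_mul_cancel_right _ _)⟩
  have h2 : Function.Bijective snd' := by
    refine ⟨(injective_iff_map_eq_one _).2 fun g hg => ?_, fun a => ?_⟩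
    · obtain ⟨⟨⟨a, b⟩, hab⟩, hmem⟩ := g
      change b = 1 at hg
      subst hg
      obtain ⟨w, rfl⟩ := (X.ker_iff a).1 (((hG _).1 hab).trans (map_one _))
      have hw : w = 0 := hint w hmem
      subst hw
      exact Subtype.ext (Subtype.ext (Prod.ext X.emb_zero rfl))
    · obtain ⟨σ, hσ⟩ : ∃ σ, σ = X'.π a := ⟨_, rfl⟩
      obtain ⟨g, hg, hgσ⟩ := hcov σ
      obtain ⟨w, hw⟩ := (X'.ker_iff (a * (g : E × E').2⁻¹)).1 (by
        rw [map_mul, map_inv, ← (hG _).1 g.2, show X.π (g : E × E').1 = σ from hgσ, ← hσ,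
          mul_inv_cancel])
      let d : G := ⟨(X.emb w, X'.emb w), (hG _).2 ((hk w).trans (hk' w).symm)⟩
      exact ⟨⟨d * g, mul_mem (hDΓ d ⟨w, rfl⟩) hg⟩, (congrArg (· * (g : E × E').2) hw).trans
        (inv_mul_cancel_right _ _)⟩
  exact ⟨(MulEquiv.ofBijective fst' h1).symm.trans (MulEquiv.ofBijective snd' h2)⟩

end CfsgLib.Golay.Cohom
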