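import Cfsg.Agent.Golay.Cohom.Modules

/-!
Extensions of `M23` by the cocode module: those without a complement are all isomorphic.
-/

set_option autoImplicit false

namespace CfsgLib.Golay.Cohom

open Cfsg

attribute [local irreducible] ev evF gM cocodeWord cocodeCoord mulV gaugeOK eqForm pick kapV
  cocodePhi cocodeKappa

theorem theta_reduce {A : Type*} [AddMonoid A] (θ : (GolayPt → ZMod 2) →+ A)
    (hker : ∀ w, θ w = 0 ↔ (w ∈ golayCode ∨ w + Pi.single none 1 ∈ golayCode))
    (w : GolayPt → ZMod 2) : θ (cocodeWord (cocodeCoord w)) = θ w := by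
  have h01 : ∀ z : ZMod 2, z = 0 ∨ z = 1 := by decide
  suffices e : θ.comp (cocodeWord.comp cocodeCoord) = θ from DFunLike.congr_fun e w
  have hp : ∀ p, θ (cocodeWord (cocodeCoord (Pi.single p 1))) = θ (Pi.single p 1) := fun p => by
    have h : θ (cocodeWord (cocodeCoord (Pi.single p 1)) + Pi.single p 1) = 0 :=
      (hker _).2 (cocode_reduce p)
    have h2 : θ (Pi.single p 1) + θ (Pi.single p 1) = 0 := by
      rw [← map_add, show (Pi.single p 1 + Pi.single p 1 : GolayPt → ZMod 2) = 0 from
        funext fun _ => zmod2_add_self _, map_zero]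
    rw [map_add] at h
    calc θ (cocodeWord (cocodeCoord (Pi.single p 1)))
        = θ (cocodeWord (cocodeCoord (Pi.single p 1))) + (θ (Pi.single p 1) + θ (Pi.single p 1)) := by
          rw [h2, add_zero]
      _ = θ (Pi.single p 1) := by rw [← add_assoc, h, zero_add]
  refine AddMonoidHom.ext fun w => ?_
  rw [← Finset.univ_sum_single w]
  induction (Finset.univ : Finset GolayPt) using Finset.induction with
  | empty => simp
  | insert a s ha ih =>
    rw [Finset.sum_insert ha, map_add, map_add, ih]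
    congr 1
    rcases h01 (w a) with h | h
    · rw [h, Pi.single_zero, map_zero, map_zero]
    · rw [h]; exact hp a

/-- The extension data of a group with the cocode module as normal subgroup. -/
theorem exists_ext {E : Type*} [Group E] (N : Subgroup E) [N.Normal]
    (φ : E ⧸ N ≃* ↥Spor.M23) (θ : (GolayPt → ZMod 2) →+ Additive ↥N)
    (hsurj : Function.Surjective θ)
    (hker : ∀ w, θ w = 0 ↔ (w ∈ golayCode ∨ w + Pi.single none 1 ∈ golayCode))
    (hθ : ∀ (g : E) (w : GolayPt → ZMod 2),
      ((θ (w ∘ ⇑(((φ (QuotientGroup.mk g) : ↥Spor.M23) : Equiv.Perm GolayPt)⁻¹))).toMul : E)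
        = g * ((θ w).toMul : E) * g⁻¹) :
    ∃ X : Ext E (actOf cocodeWord cocodeCoord), X.π.ker = N := by
  have hred := fun w => congrArg (fun b : Additive ↥N => (b.toMul : E))
    (theta_reduce θ hker w)
  refine ⟨{ π := φ.toMonoidHom.comp (QuotientGroup.mk' N)
            emb := fun v => ((θ (cocodeWord v)).toMul : E)
            emb_add := fun u v => by rw [map_add, map_add]; rfl
            emb_inj := fun u v h => ?_
            ker_iff := fun e => ?_
            surj := φ.surjective.comp (QuotientGroup.mk'_surjective N)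
            conj := fun e v => ?_ }, ?_⟩
  · have h1 : θ (cocodeWord u) = θ (cocodeWord v) := Additive.toMul.injective (Subtype.ext h)
    have h2 : θ (cocodeWord (u + v)) = 0 := by
      rw [map_add, map_add, h1, ← map_add, ← map_add, vec_add_self, map_zero, map_zero]
    have h3 := cocodeWord_inj ((hker _).1 h2)
    rw [← add_zero u, ← vec_add_self v, ← add_assoc, h3, zero_add]
  · show φ (QuotientGroup.mk e) = 1 ↔ _
    rw [EmbeddingLike.map_eq_one_iff, QuotientGroup.eq_one_iff]
    refine ⟨fun he => ?_, ?_⟩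
    · obtain ⟨w, hw⟩ := hsurj (Additive.ofMul ⟨e, he⟩)
      exact ⟨cocodeCoord w, (hred w).trans (congrArg (fun b : Additive ↥N => (b.toMul : E)) hw)⟩
    · rintro ⟨v, rfl⟩
      exact (θ (cocodeWord v)).toMul.2
  · show e * ((θ (cocodeWord v)).toMul : E) * e⁻¹ = _
    rw [← hθ]
    exact (hred _).symm
  · ext e
    rw [MonoidHom.mem_ker]
    show φ (QuotientGroup.mk e) = 1 ↔ e ∈ N
    rw [EmbeddingLike.map_eq_one_iff, QuotientGroup.eq_one_iff]

/-- The tails of an extension without complement are the nonzero class. -/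
theorem exists_tails {E : Type*} [Group E] [Finite E] (X : Ext E (actOf cocodeWord cocodeCoord))
    (hns : ∀ H : Subgroup E, H ⊓ X.π.ker = ⊥ → H ⊔ X.π.ker ≠ ⊤) :
    ∃ s : ℕ → E, (∀ k, X.π (s k) = gM k) ∧ ∀ r < 28, evalW s (rules.getD r ([], [])).1 =
      X.emb (kapV cocodeKappa r) * evalW s (rules.getD r ([], [])).2 := by
  obtain ⟨s, hs, x, hx⟩ := X.exists_normalised cocode_act cocode_masks cocode_gauge
  have h01 : ∀ z : ZMod 2, z = 0 ∨ z = 1 := by decide
  rcases h01 (ev x cocodePhi) with h | h
  · obtain ⟨H, hH⟩ := X.split s hs fun r hr => by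
      rw [hx r hr, h, zero_smul, X.emb_zero, one_mul]
    exact absurd (by rw [sup_comm]; exact hH.sup_eq_top)
      (hns H (by rw [inf_comm]; exact disjoint_iff.1 hH.disjoint))
  · exact ⟨s, hs, fun r hr => by rw [hx r hr, h, one_smul]⟩

/-- Extensions by the cocode module without complement are isomorphic. -/
theorem iso_of_not_split {E E' : Type*} [Group E] [Finite E] [Group E'] [Finite E']
    (X : Ext E (actOf cocodeWord cocodeCoord)) (X' : Ext E' (actOf cocodeWord cocodeCoord))
    (hns : ∀ H : Subgroup E, H ⊓ X.π.ker = ⊥ → H ⊔ X.π.ker ≠ ⊤)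
    (hns' : ∀ H : Subgroup E', H ⊓ X'.π.ker = ⊥ → H ⊔ X'.π.ker ≠ ⊤) : Nonempty (E ≃* E') := by
  obtain ⟨s, hs, ht⟩ := exists_tails X hns
  obtain ⟨s', hs', ht'⟩ := exists_tails X' hns'
  exact X.iso_of_tails X' s s' (kapV cocodeKappa) hs hs' ht ht'

end CfsgLib.Golay.Cohom
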