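import Cfsg.Agent.Golay.Cohom.Cert

/-!
The code module and the cocode module of `M23` in coordinates, and their certificates.
-/

set_option autoImplicit false
set_option maxRecDepth 20000

namespace CfsgLib.Golay.Cohom

open Cfsg CfsgLib.Mathieu CfsgLib.Mathieu.Code
open scoped Pointwise

attribute [local irreducible] gPerm mulV enc cmpC idC code permOf gens rules

/-- The word with given coordinates with respect to a list of masks. -/
def wordH (ms : List ℕ) : Vec →+ (GolayPt → ZMod 2) :=
  AddMonoidHom.mk' (fun v p => ∑ i : Fin 11, if (ms.getD i.val 0).testBit (p2i p) then v i else 0)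
    fun u v => by
      funext p
      simp only [Pi.add_apply, ← Finset.sum_add_distrib]
      refine Finset.sum_congr rfl fun i _ => ?_
      split <;> simp

/-- Words of the code module. -/
def codeWord : Vec →+ (GolayPt → ZMod 2) := wordH codeBasis

/-- Coordinates in the code module. -/
def codeCoord : (GolayPt → ZMod 2) →+ Vec :=
  AddMonoidHom.mk' (fun w i => w (i2p (codePts.getD i.val 0))) fun _ _ => rfl

/-- Representatives of the cocode module. -/
def cocodeWord : Vec →+ (GolayPt → ZMod 2) := wordH (cocodePts.map fun q => 1 <<< q)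

/-- Coordinates in the cocode module. -/
def cocodeCoord : (GolayPt → ZMod 2) →+ Vec :=
  AddMonoidHom.mk'
    (fun w i => ∑ p : GolayPt, if (cocodeRed.getD (p2i p) 0).testBit i.val then w p else 0)
    fun u v => by
      funext i
      simp only [Pi.add_apply, ← Finset.sum_add_distrib]
      refine Finset.sum_congr rfl fun p _ => ?_
      split <;> simp

/-- The action in coordinates. -/
def actOf (word : Vec →+ (GolayPt → ZMod 2)) (coord : (GolayPt → ZMod 2) →+ Vec)
    (σ : ↥Spor.M23) (v : Vec) : Vec :=
  coord (word v ∘ ⇑((σ : Equiv.Perm GolayPt)⁻¹))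

/-- The action as a homomorphism. -/
def actHom (word : Vec →+ (GolayPt → ZMod 2)) (coord : (GolayPt → ZMod 2) →+ Vec)
    (σ : Equiv.Perm GolayPt) : Vec →+ Vec :=
  AddMonoidHom.mk' (fun v => coord (word v ∘ ⇑σ⁻¹)) fun u v => by
    rw [map_add word, ← map_add coord]; rfl

theorem hom_ext_single {M : Type*} [AddCommMonoid M] {n : ℕ} {f g : (Fin n → ZMod 2) →+ M}
    (h : ∀ i, f (Pi.single i 1) = g (Pi.single i 1)) : f = g := by
  refine AddMonoidHom.functions_ext M f g fun i x => ?_
  have h01 : ∀ z : ZMod 2, z = 0 ∨ z = 1 := by decide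
  rcases h01 x with rfl | rfl
  · rw [Pi.single_zero, map_zero, map_zero]
  · exact h i

theorem words_hom_ext_single {M : Type*} [AddCommMonoid M] {f g : (GolayPt → ZMod 2) →+ M}
    (h : ∀ p, f (Pi.single p 1) = g (Pi.single p 1)) : f = g := by
  refine AddMonoidHom.functions_ext M f g fun i x => ?_
  have h01 : ∀ z : ZMod 2, z = 0 ∨ z = 1 := by decide
  rcases h01 x with rfl | rfl
  · rw [Pi.single_zero, map_zero, map_zero]
  · exact h i

theorem actOf_gM (word : Vec →+ (GolayPt → ZMod 2)) (coord : (GolayPt → ZMod 2) →+ Vec)
    (mats : List (List ℕ)) (hl : mats.length = 11) (hid : ∀ v, coord (word v) = v)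
    (h : ∀ k < 11, ∀ i j : Fin 11, actHom word coord (gPerm k) (Pi.single i 1) j =
      mulV (matOf mats k) (Pi.single i 1) j)
    (k : ℕ) (v : Vec) : actOf word coord (gM k) v = mulV (matOf mats k) v := by
  rcases lt_or_ge k 11 with hk | hk
  · have e : actHom word coord (gPerm k) =
        AddMonoidHom.mk' (mulV (matOf mats k)) (mulV_add _) :=
      hom_ext_single fun i => funext (h k hk i)
    exact ((DFunLike.congr_fun e v : actHom word coord (gPerm k) v = _) :)
  · rw [matOf, List.getD_eq_default _ _ (by omega), mulV_idM, gM_of_le hk, actOf,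
      OneMemClass.coe_one, inv_one, Equiv.Perm.coe_one, Function.comp_id, hid]

theorem codeCoord_word (v : Vec) : codeCoord (codeWord v) = v := by
  have key : ∀ i j : Fin 11, codeCoord (codeWord (Pi.single i 1)) j =
      (Pi.single i 1 : Vec) j := by decide +kernel
  exact DFunLike.congr_fun
    (hom_ext_single (f := codeCoord.comp codeWord) (g := AddMonoidHom.id _)
      fun i => funext (key i)) v

theorem cocodeCoord_word (v : Vec) : cocodeCoord (cocodeWord v) = v := by
  have key : ∀ i j : Fin 11, cocodeCoord (cocodeWord (Pi.single i 1)) j =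
      (Pi.single i 1 : Vec) j := by decide +kernel
  exact DFunLike.congr_fun
    (hom_ext_single (f := cocodeCoord.comp cocodeWord) (g := AddMonoidHom.id _)
      fun i => funext (key i)) v

theorem codeWord_mem (v : Vec) : codeWord v ∈ golayCode ∧ codeWord v none = 0 := by
  have key : ∀ i : Fin 11, inCode (toMask (support₂ (codeWord (Pi.single i 1)))) = true ∧
      codeWord (Pi.single i 1) none = 0 := by decide +kernel
  have hv : v = ∑ i, Pi.single i (v i) := (Finset.univ_sum_single v).symm
  have h01 : ∀ z : ZMod 2, z = 0 ∨ z = 1 := by decide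
  have hi : ∀ i, codeWord (Pi.single i (v i)) ∈ golayCode ∧
      codeWord (Pi.single i (v i)) none = 0 := fun i => by
    rcases h01 (v i) with h | h
    · rw [h, Pi.single_zero, map_zero]; exact ⟨zero_mem _, rfl⟩
    · rw [h]; exact ⟨mem_golayCode_iff.mpr (key i).1, (key i).2⟩
  rw [hv, map_sum]
  exact ⟨sum_mem fun i _ => (hi i).1,
    by rw [Finset.sum_apply]; exact Finset.sum_eq_zero fun i _ => (hi i).2⟩

/-- A code word vanishing on a set of points which meets every nonzero code word is zero. -/
theorem eq_zero_of_vanish (M : ℕ)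
    (hM : allSpan (fun n => (n &&& M != 0) || n == 0) basisMasks 0 = true)
    {x : GolayPt → ZMod 2} (hx : x ∈ golayCode)
    (h : ∀ i : Fin 24, M.testBit i.val = true → x (pt i) = 0) : x = 0 := by
  have hn := of_allSpan hM (mem_golayCode_iff.mp hx)
  have h0 : toMask (support₂ x) &&& M = 0 := by
    apply Nat.eq_of_testBit_eq
    intro i
    rw [Nat.testBit_and, Nat.zero_testBit]
    rcases lt_or_ge i 24 with hi | hi
    · rw [show i = (⟨i, hi⟩ : Fin 24).val from rfl, testBit_toMask]
      rcases hb : M.testBit i with _ | _
      · simp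
      · simp [support₂, h ⟨i, hi⟩ hb]
    · rw [Nat.testBit_lt_two_pow (lt_of_lt_of_le (toMask_lt _)
        (Nat.pow_le_pow_right (by norm_num) hi)), Bool.false_and]
  rw [h0] at hn
  simp only [bne_self_eq_false, Bool.false_or, beq_iff_eq] at hn
  apply support₂_injective
  apply toMask_injective
  rw [hn, support₂_zero, ← ofMask_zero, toMask_ofMask (by norm_num)]

theorem codeWord_coord {w : GolayPt → ZMod 2} (hw : w ∈ golayCode) (h0 : w none = 0) :
    codeWord (codeCoord w) = w := by
  have hp : ∀ i : Fin 24, Nat.testBit 16773120 i.val = true →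
      pt i = none ∨ ∃ j : Fin 11, pt i = i2p (codePts.getD j.val 0) := by decide +kernel
  have hx := eq_zero_of_vanish 16773120 (by decide +kernel)
    (add_mem hw (codeWord_mem (codeCoord w)).1) fun i hi => by
      rcases hp i hi with h | ⟨j, h⟩
      · rw [h, Pi.add_apply, h0, (codeWord_mem _).2, add_zero]
      · rw [h, Pi.add_apply]
        show codeCoord w j + codeCoord (codeWord (codeCoord w)) j = 0
        rw [codeCoord_word]
        exact zmod2_add_self _
  funext p
  have := congrFun hx p
  rw [Pi.add_apply, Pi.zero_apply] at this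
  have key : ∀ a b : ZMod 2, a + b = 0 → b = a := by decide
  exact key _ _ this

theorem cocodeWord_inj {v : Vec} (hv : cocodeWord v ∈ golayCode ∨
    cocodeWord v + Pi.single none 1 ∈ golayCode) : v = 0 := by
  have hz : ∀ i : Fin 24, Nat.testBit 8386560 i.val = true → pt i ≠ none ∧
      ∀ j : Fin 11, Nat.testBit ((cocodePts.map fun q => 1 <<< q).getD j.val 0) (p2i (pt i)) =
        false := by decide +kernel
  have hzero : ∀ i : Fin 24, Nat.testBit 8386560 i.val = true → cocodeWord v (pt i) = 0 :=
    fun i hi => by
      show (∑ j : Fin 11,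
        if ((cocodePts.map fun q => 1 <<< q).getD j.val 0).testBit (p2i (pt i)) then v j else 0) = 0
      refine Finset.sum_eq_zero fun j _ => ?_
      rw [(hz i hi).2 j]
      rfl
  have hM : allSpan (fun n => (n &&& 8386560 != 0) || n == 0) basisMasks 0 = true := by
    decide +kernel
  rcases hv with hv | hv
  · have h := eq_zero_of_vanish 8386560 hM hv hzero
    rw [← cocodeCoord_word v, h, map_zero]
  · have h := eq_zero_of_vanish 8386560 hM hv fun i hi => by
      rw [Pi.add_apply, hzero i hi, Pi.single_eq_of_ne (hz i hi).1, add_zero]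
    have hnone : cocodeCoord (Pi.single none 1) = 0 := by
      have : ∀ j, cocodeCoord (Pi.single none 1) j = 0 := by decide +kernel
      exact funext this
    have := congrArg cocodeCoord h
    rwa [map_add, hnone, add_zero, cocodeCoord_word, map_zero] at this

theorem cocode_reduce (p : GolayPt) :
    cocodeWord (cocodeCoord (Pi.single p 1)) + Pi.single p 1 ∈ golayCode ∨
      cocodeWord (cocodeCoord (Pi.single p 1)) + Pi.single p 1 + Pi.single none 1 ∈ golayCode := by
  have key : ∀ p, inCode (toMask (support₂
      (cocodeWord (cocodeCoord (Pi.single p 1)) + Pi.single p 1))) = true ∨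
      inCode (toMask (support₂
      (cocodeWord (cocodeCoord (Pi.single p 1)) + Pi.single p 1 + Pi.single none 1))) = true := by
    decide +kernel
  exact (key p).imp mem_golayCode_iff.mpr mem_golayCode_iff.mpr

theorem code_act : ∀ (k : ℕ) (v : Vec),
    actOf codeWord codeCoord (gM k) v = mulV (matOf codeMats k) v :=
  actOf_gM _ _ _ rfl codeCoord_word (by decide +kernel)

theorem cocode_act : ∀ (k : ℕ) (v : Vec),
    actOf cocodeWord cocodeCoord (gM k) v = mulV (matOf cocodeMats k) v :=
  actOf_gM _ _ _ rfl cocodeCoord_word (by decide +kernel)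

theorem code_masks : pick (codeEqs.flatMap (eqForm codeMats)) 0 codeIdx = codeMasks := by
  decide +kernel

theorem cocode_masks :
    pick (cocodeEqs.flatMap (eqForm cocodeMats)) 0 cocodeIdx = cocodeMasks := by
  decide +kernel

theorem code_gauge :
    gaugeOK codeMats codeGauge codeMasks codePhi codeKappa codePicks = true := by
  decide +kernel

theorem cocode_gauge :
    gaugeOK cocodeMats cocodeGauge cocodeMasks cocodePhi cocodeKappa cocodePicks = true := by
  decide +kernel

end CfsgLib.Golay.Cohom
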